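import Groth.Agent.TorsNontrivLib.Glue
import Groth.Agent.SekSuwaMonoLib.Basic
import Groth.Agent.SekSuwaGen.Main
import Groth.Agent.PowEtCentralLib.Transport

/-! A nontrivial affine group of finite type has a nontrivial torsor. -/

set_option autoImplicit false
set_option maxHeartbeats 800000
set_option backward.isDefEq.respectTransparency false
set_option backward.isDefEq.respectTransparency.types false

universe u

open CategoryTheory CategoryTheory.Limits MonoidalCategory CartesianMonoidalCategory AlgebraicGeometry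
open scoped MonObj
open Groth.Agent SekSuwaMonoLib
open TorsSeqLib (act act_one act_mul comp_act)

attribute [-instance] CategoryTheory.Hom.commGroup

noncomputable section

namespace TorsNontrivLib

section Alg

variable (k : Type u) [CommRing k] (A : Type u) [CommRing A] [Algebra k A] [Algebra.FiniteType k A]

open Polynomial in
theorem exists_cone : ∃ (S L : Type u) (_ : CommRing S) (_ : CommRing L) (_ : Algebra k S) (_ : Algebra S L)
    (_ : Algebra k L) (_ : IsScalarTower k S L) (t : S) (i : A →ₐ[k] L), Algebra.FiniteType k S ∧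
      IsLocalization.Away t L ∧ ∀ ζ : A →+* S, (∀ a, algebraMap S L (ζ a) = i a) →
        Function.Surjective (algebraMap k A) := by
  obtain ⟨s, hs⟩ := (Algebra.FiniteType.out : (⊤ : Subalgebra k A).FG)
  classical
  let gens : Finset (Polynomial A) := insert X (s.image fun a => C a * X)
  let S : Subalgebra k (Polynomial A) := Algebra.adjoin k (gens : Set (Polynomial A))
  have hX : (X : Polynomial A) ∈ S := Algebra.subset_adjoin (by simp [gens])
  let t : S := ⟨X, hX⟩
  let M := Localization.Away (X : Polynomial A)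
  have hmul : ∀ F : Polynomial A, ∃ n, X ^ n * F ∈ S := by
    intro F
    induction F using Polynomial.induction_on' with
    | add p q hp hq =>
      obtain ⟨n, hn⟩ := hp
      obtain ⟨m, hm⟩ := hq
      refine ⟨n + m, ?_⟩
      rw [mul_add]
      refine add_mem ?_ ?_
      · rw [pow_add, mul_comm (X ^ n), mul_assoc]; exact mul_mem (pow_mem hX _) hn
      · rw [pow_add, mul_assoc]; exact mul_mem (pow_mem hX _) hm
    | monomial i a =>
      suffices ∃ n, X ^ n * C a ∈ S by
        obtain ⟨n, hn⟩ := this
        refine ⟨n, ?_⟩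
        rw [← C_mul_X_pow_eq_monomial, ← mul_assoc]
        exact mul_mem hn (pow_mem hX _)
      have ha : a ∈ Algebra.adjoin k (s : Set A) := hs ▸ Algebra.mem_top
      induction ha using Algebra.adjoin_induction with
      | mem x hx =>
        refine ⟨1, ?_⟩
        rw [pow_one, mul_comm]
        exact Algebra.subset_adjoin (by
          simp only [gens, Finset.coe_insert, Finset.coe_image]
          exact Or.inr ⟨x, hx, rfl⟩)
      | algebraMap r => exact ⟨0, by rw [pow_zero, one_mul]; exact S.algebraMap_mem r⟩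
      | add x y _ _ hx hy =>
        obtain ⟨n, hn⟩ := hx
        obtain ⟨m, hm⟩ := hy
        refine ⟨n + m, ?_⟩
        rw [map_add, mul_add]
        refine add_mem ?_ ?_
        · rw [pow_add, mul_comm (X ^ n), mul_assoc]; exact mul_mem (pow_mem hX _) hn
        · rw [pow_add, mul_assoc]; exact mul_mem (pow_mem hX _) hm
      | mul x y _ _ hx hy =>
        obtain ⟨n, hn⟩ := hx
        obtain ⟨m, hm⟩ := hy
        refine ⟨n + m, ?_⟩
        rw [map_mul, show X ^ (n + m) * (C x * C y) = (X ^ n * C x) * (X ^ m * C y) by ring]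
        exact mul_mem hn hm
  haveI : IsScalarTower k S M := inferInstance
  have hinj : Function.Injective (algebraMap (Polynomial A) M) :=
    IsLocalization.injective M (Submonoid.powers_le.2 Polynomial.monic_X.mem_nonZeroDivisors)
  have hloc : IsLocalization.Away t M := by
    constructor
    constructor
    · rintro ⟨_, n, rfl⟩
      change IsUnit (algebraMap (Polynomial A) M (X ^ n))
      rw [map_pow]
      exact (IsLocalization.Away.algebraMap_isUnit (X : Polynomial A)).pow n
    · intro z
      obtain ⟨m, F, hF⟩ := IsLocalization.Away.surj (X : Polynomial A) z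
      obtain ⟨n, hn⟩ := hmul F
      refine ⟨⟨⟨_, hn⟩, ⟨t ^ (n + m), n + m, rfl⟩⟩, ?_⟩
      change z * algebraMap (Polynomial A) M (X ^ (n + m)) = algebraMap (Polynomial A) M (X ^ n * F)
      rw [map_pow, map_mul, map_pow, ← hF, pow_add]
      ring
    · intro x y hxy
      have : x = y := Subtype.ext (hinj hxy)
      exact ⟨1, by rw [this]⟩
  refine ⟨S, M, inferInstance, inferInstance, inferInstance, inferInstance, inferInstance, inferInstance, t,
    (IsScalarTower.toAlgHom k (Polynomial A) M).comp (IsScalarTower.toAlgHom k A (Polynomial A)), ?_, hloc,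
    fun ζ hζ a => ?_⟩
  · exact (Subalgebra.fg_iff_finiteType S).1 ⟨gens, rfl⟩
  · have h0 : ∀ F : Polynomial A, F ∈ S → F.coeff 0 ∈ (⊥ : Subalgebra k A) := by
      intro F hF
      induction hF using Algebra.adjoin_induction with
      | mem x hx =>
        simp only [gens, Finset.coe_insert, Finset.coe_image] at hx
        rcases hx with rfl | ⟨b, -, rfl⟩
        · rw [Polynomial.coeff_X_zero]; exact zero_mem _
        · rw [Polynomial.coeff_mul_X_zero]; exact zero_mem _
      | algebraMap r =>
        rw [IsScalarTower.algebraMap_apply k A (Polynomial A), Polynomial.algebraMap_eq, Polynomial.coeff_C_zero]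
        exact Subalgebra.algebraMap_mem _ r
      | add x y _ _ hx hy => rw [Polynomial.coeff_add]; exact add_mem hx hy
      | mul x y _ _ hx hy => rw [Polynomial.mul_coeff_zero]; exact mul_mem hx hy
    have e : (ζ a : Polynomial A) = C a := hinj (hζ a)
    have := h0 _ (ζ a).2
    rw [e, Polynomial.coeff_C_zero] at this
    exact Algebra.mem_bot.1 this

end Alg

theorem result (k : Type u) [Field k] (G : Over (Spec (CommRingCat.of k))) [GrpObj G]
    [IsAffineHom G.hom] [LocallyOfFiniteType G.hom] (hG : ¬ IsIso G.hom) :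
    ∃ (T : Scheme.{u}) (f : T ⟶ Spec (CommRingCat.of k)),
      LocallyOfFiniteType f ∧ QuasiCompact f ∧
      ∃ P : NonAbH1.TorsorSch (Red.bc f G) Scheme.fppfPrecoverage,
        ¬ NonAbH1.HasSectionOver P.X (𝟙 T) := by
  haveI : IsAffine G.left := isAffine_of_isAffineHom G.hom
  let A := Γ(G.left, ⊤)
  letI : Algebra k A := (cst G.hom).toAlgebra
  have hst : Spec.map (CommRingCat.ofHom (algebraMap k A)) = G.left.isoSpec.inv ≫ G.hom := by
    rw [← cancel_epi G.left.isoSpec.hom, Iso.hom_inv_id_assoc]
    exact SekSuwaGen.eq_toAff G.hom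
  haveI : Algebra.FiniteType k A := by
    have h : LocallyOfFiniteType (Spec.map (CommRingCat.ofHom (algebraMap k A))) := by rw [hst]; infer_instance
    have hh : (CommRingCat.ofHom (algebraMap k A)).hom.FiniteType :=
      (HasRingHomProperty.Spec_iff (P := @LocallyOfFiniteType)).1 h
    exact RingHom.finiteType_algebraMap.1 hh
  obtain ⟨S, L, _, _, _, _, _, _, t, i, hfg, hloc, hext⟩ := exists_cone k A
  haveI := hfg; haveI := hloc
  let fY : Spec (CommRingCat.of S) ⟶ Spec (CommRingCat.of k) := Spec.map (CommRingCat.ofHom (algebraMap k S))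
  haveI : LocallyOfFiniteType fY :=
    (HasRingHomProperty.Spec_iff (P := @LocallyOfFiniteType)).2 (RingHom.finiteType_algebraMap.2 inferInstance)
  let w : Spec (CommRingCat.of L) ⟶ Spec (CommRingCat.of S) := Spec.map (CommRingCat.ofHom (algebraMap S L))
  haveI : IsOpenImmersion w := IsOpenImmersion.of_isLocalization t
  obtain ⟨V, i1, i2, hi1, hi2, hcomm, hsurj, hinter, hdesc⟩ := TorsLineGlueLib.exists_pushout w w
  haveI := hi1; haveI := hi2
  obtain ⟨f, hf1, hf2⟩ := hdesc _ fY fY rfl
  let U1 : Over V := Over.mk i1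
  let U2 : Over V := Over.mk i2
  let O : Over V := Over.mk (w ≫ i1)
  haveI : IsOpenImmersion U1.hom := hi1
  haveI : IsOpenImmersion U2.hom := hi2
  haveI : IsOpenImmersion O.hom := inferInstanceAs (IsOpenImmersion (w ≫ i1))
  let o1 : O ⟶ U1 := Over.homMk w rfl
  let o2 : O ⟶ U2 := Over.homMk w hcomm.symm
  have hO : ∀ (T : Over V), (T ⟶ U1) → (T ⟶ U2) → Nonempty (T ⟶ O) := by
    intro T a b
    have hr : Set.range a.left ⊆ Set.range w := by
      rintro _ ⟨x, rfl⟩
      obtain ⟨o, ho, -⟩ := hinter (a.left x) (b.left x) (by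
        have ea : i1 (a.left x) = T.hom x := (Scheme.Hom.comp_apply _ _ _).symm.trans (congrArg (fun z : T.left ⟶ V => z x) (Over.w a))
        have eb : i2 (b.left x) = T.hom x := (Scheme.Hom.comp_apply _ _ _).symm.trans (congrArg (fun z : T.left ⟶ V => z x) (Over.w b))
        rw [ea, eb])
      exact ⟨o, ho⟩
    exact ⟨Over.homMk (IsOpenImmersion.lift w a.left hr) (by
      change IsOpenImmersion.lift w a.left hr ≫ w ≫ i1 = T.hom
      rw [← Category.assoc, IsOpenImmersion.lift_fac]
      exact Over.w a)⟩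
  let g₀ : (Over.map f).obj O ⟶ G :=
    Over.homMk (Spec.map (CommRingCat.ofHom i.toRingHom) ≫ G.left.isoSpec.inv) (by
      change (Spec.map _ ≫ _) ≫ G.hom = (w ≫ i1) ≫ f
      rw [Category.assoc, ← hst, Category.assoc, hf1, ← Spec.map_comp, ← Spec.map_comp, ← CommRingCat.ofHom_comp,
        ← CommRingCat.ofHom_comp]
      congr 2
      exact i.comp_algebraMap.trans (IsScalarTower.algebraMap_eq k S L))
  let σ : O ⟶ Red.bc f G := PowEtCentralLib.adjEquiv f O g₀
  obtain ⟨Yt, e, e', hover, heo, hglue, hequiv⟩ := exists_glued (NonAbH1.trivialAction (Red.bc f G))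
    (NonAbH1.isTorsorFor_trivialAction _ Scheme.fppfPrecoverage) U1 U2 O o1 o2 hO hsurj σ
  refine ⟨V, f, ?_, ?_, Yt, ?_⟩
  · let 𝒰 : Scheme.OpenCover.{u} V := Scheme.Cover.mkOfCovers (ULift.{u} Bool) (fun _ => Spec (CommRingCat.of S))
      (fun b => if b.down then i1 else i2) (fun x => by
        rcases hsurj x with ⟨y, hy⟩ | ⟨y, hy⟩
        · exact ⟨⟨true⟩, y, hy⟩
        · exact ⟨⟨false⟩, y, hy⟩) (by rintro ⟨_ | _⟩ <;> assumption)
    refine (IsZariskiLocalAtSource.iff_of_openCover (P := @LocallyOfFiniteType) 𝒰).2 ?_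
    rintro ⟨_ | _⟩
    · change LocallyOfFiniteType (i2 ≫ f)
      rw [hf2]; infer_instance
    · change LocallyOfFiniteType (i1 ≫ f)
      rw [hf1]; infer_instance
  · haveI : CompactSpace V := ⟨by
      rw [show (Set.univ : Set V) = Set.range i1 ∪ Set.range i2 from (Set.eq_univ_of_forall fun y => hsurj y).symm]
      exact (isCompact_range i1.continuous).union (isCompact_range i2.continuous)⟩
    exact (quasiCompact_iff_compactSpace f).2 inferInstance
  · rintro ⟨s₀, hs₀⟩
    let s : 𝟙_ (Over V) ⟶ Yt.X := Over.homMk s₀ hs₀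
    obtain ⟨p, hp⟩ := hover U1 (toUnit U1 ≫ s) (𝟙 U1)
    obtain ⟨h, hh⟩ := TorsSeqLib.exists_act_eq Yt.isTorsor.1 e' (toUnit U2 ≫ s)
    haveI := heo
    haveI : Mono e := ⟨fun a b hab => TorsLineGlueLib.mono_cancel e hab⟩
    have h1 : act Yt.act (o2 ≫ h) (lift σ o1 ≫ e) = lift (o1 ≫ p) o1 ≫ e := by
      rw [← hglue, ← comp_act, hh, ← Category.assoc, toUnit_unique (o2 ≫ toUnit U2) (o1 ≫ toUnit U1), Category.assoc,
        ← hp, ← Category.assoc, comp_lift, Category.comp_id]
    rw [hequiv] at h1
    have h2 : (o2 ≫ h) * σ = o1 ≫ p := by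
      have := congrArg (· ≫ fst _ _) ((cancel_mono e).1 h1)
      simpa [TorsSeqLib.trivialAction_act] using this
    let Y₀ : Over (Spec (CommRingCat.of k)) := Over.mk fY
    let m1 : Y₀ ⟶ (Over.map f).obj U1 := Over.homMk (𝟙 _) (by change 𝟙 _ ≫ i1 ≫ f = fY; rw [Category.id_comp, hf1])
    let m2 : Y₀ ⟶ (Over.map f).obj U2 := Over.homMk (𝟙 _) (by change 𝟙 _ ≫ i2 ≫ f = fY; rw [Category.id_comp, hf2])
    let z : Y₀ ⟶ G := (m2 ≫ (PowEtCentralLib.adjEquiv f U2).symm h)⁻¹ * (m1 ≫ (PowEtCentralLib.adjEquiv f U1).symm p)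
    let mo : (Over.map f).obj O ⟶ Y₀ := Over.homMk w (by
      change w ≫ fY = (w ≫ i1) ≫ f
      rw [Category.assoc, hf1])
    have hm1 : mo ≫ m1 = (Over.map f).map o1 := Over.OverMorphism.ext (Category.comp_id w)
    have hm2 : mo ≫ m2 = (Over.map f).map o2 := Over.OverMorphism.ext (Category.comp_id w)
    have hsym : ∀ (U : Over V) (o : O ⟶ U) (x : U ⟶ Red.bc f G),
        (PowEtCentralLib.adjEquiv f O).symm (o ≫ x) = (Over.map f).map o ≫ (PowEtCentralLib.adjEquiv f U).symm x :=
      fun U o x => Adjunction.homEquiv_naturality_left_symm _ _ _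
    have hz : mo ≫ z = g₀ := by
      change mo ≫ (_⁻¹ * _) = _
      rw [MonObj.comp_mul, GrpObj.comp_inv, ← Category.assoc, ← Category.assoc, hm1, hm2, ← hsym, ← hsym, ← h2,
        map_mul, inv_mul_cancel_left]
      exact (PowEtCentralLib.adjEquiv f O).symm_apply_apply g₀
    -- so the algebra is trivial
    let ζ := Spec.preimage (z.left ≫ G.left.isoSpec.hom)
    have hζ : ∀ a, algebraMap S L (ζ.hom a) = i a := by
      have e1 := congrArg (fun q => q.left ≫ G.left.isoSpec.hom) hz
      change (w ≫ z.left) ≫ _ = (Spec.map _ ≫ _) ≫ _ at e1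
      rw [Category.assoc, Category.assoc, Iso.inv_hom_id, Category.comp_id, ← Spec.map_preimage (z.left ≫ _),
        ← Spec.map_comp] at e1
      exact fun a => congr($(Spec.map_injective e1) a)
    have hsurjA := hext ζ.hom hζ
    haveI : Nontrivial A := by
      let v : 𝟙_ (Over (Spec (CommRingCat.of k))) ⟶ G := η[G]
      let r : A →+* k := (Scheme.ΓSpecIso (CommRingCat.of k)).hom.hom.comp v.left.appTop.hom
      exact r.domain_nontrivial
    have hbij : Function.Bijective (algebraMap k A) := ⟨(algebraMap k A).injective, hsurjA⟩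
    haveI : IsIso (CommRingCat.ofHom (algebraMap k A)) := (ConcreteCategory.isIso_iff_bijective _).2 hbij
    apply hG
    haveI : IsIso (G.left.isoSpec.inv ≫ G.hom) := by rw [← hst]; infer_instance
    exact IsIso.of_isIso_comp_left G.left.isoSpec.inv G.hom

end TorsNontrivLib
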