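import Groth.Agent.TorsLineGlueLib.Glue

/-!
# Gluing a torsor with the trivial torsor, with the transition function
-/

set_option autoImplicit false
set_option backward.isDefEq.respectTransparency false
universe u

open CategoryTheory CategoryTheory.Limits MonoidalCategory CartesianMonoidalCategory AlgebraicGeometry
open scoped MonObj
open TorsSeqLib (act act_one act_mul comp_act)
open TorsPatchLib (ext_over exists_over exists_pullback_cover)
open TorsLineGlueLib hiding exists_glued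

attribute [-instance] CategoryTheory.Hom.commGroup

noncomputable section

namespace TorsNontrivLib

variable {V : Scheme.{u}}

/-- A torsor glued with the trivial torsor along a point over the intersection. -/
theorem exists_glued {H P : Over V} [GrpObj H] (a : AlgGrp.Action H P)
    (ha : NonAbH1.IsTorsorFor Scheme.fppfPrecoverage a) (U1 U2 O : Over V) [IsOpenImmersion U1.hom]
    [IsOpenImmersion U2.hom] [IsOpenImmersion O.hom] (o1 : O ⟶ U1) (o2 : O ⟶ U2)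
    (hO : ∀ (T : Over V), (T ⟶ U1) → (T ⟶ U2) → Nonempty (T ⟶ O))
    (hcov : ∀ x : V, x ∈ Set.range U1.hom ∨ x ∈ Set.range U2.hom) (σ : O ⟶ P) :
    ∃ (Y : NonAbH1.TorsorSch H Scheme.fppfPrecoverage) (e : P ⊗ U1 ⟶ Y.X) (e' : U2 ⟶ Y.X),
      (∀ (T : Over V) (y : T ⟶ Y.X) (v : T ⟶ U1), ∃ p : T ⟶ P, lift p v ≫ e = y) ∧
      IsOpenImmersion e.left ∧ o2 ≫ e' = lift σ o1 ≫ e ∧
      ∀ (T : Over V) (g : T ⟶ H) (p : T ⟶ P) (v : T ⟶ U1),
        act Y.act g (lift p v ≫ e) = lift (act a g p) v ≫ e := by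
  obtain ⟨j1, hj1, hj1p⟩ := exists_kappa ha.1 o1 σ
  obtain ⟨j2, hj2, hj2p⟩ := exists_kappa (NonAbH1.isPseudoTorsorSch_trivialAction H) o2 (1 : O ⟶ H)
  obtain ⟨Yl, i1, i2, hi1, hi2, hcomm, hsurj, hinter, hdesc⟩ := exists_pushout j1.left j2.left
  obtain ⟨π, hπ1, hπ2⟩ := hdesc V (P ⊗ U1).hom (H ⊗ U2).hom (by rw [Over.w, Over.w])
  let Y : Over V := Over.mk π
  let e1 : P ⊗ U1 ⟶ Y := Over.homMk i1 hπ1
  let e2 : H ⊗ U2 ⟶ Y := Over.homMk i2 hπ2
  haveI : IsOpenImmersion e1.left := hi1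
  haveI : IsOpenImmersion e2.left := hi2
  haveI := subsingleton_hom U1
  haveI := subsingleton_hom U2
  haveI := subsingleton_hom O
  have he : j1 ≫ e1 = j2 ≫ e2 := Over.OverMorphism.ext hcomm
  have inter : ∀ {T : Over V} (x : T ⟶ P ⊗ U1) (x' : T ⟶ H ⊗ U2), x ≫ e1 = x' ≫ e2 →
      ∃ c : T ⟶ H ⊗ O, c ≫ j1 = x ∧ c ≫ j2 = x' := by
    intro T x x' h
    have hr : Set.range x.left ⊆ Set.range j1.left := by
      rintro _ ⟨t, rfl⟩
      obtain ⟨o, ho, -⟩ := hinter (x.left t) (x'.left t) (by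
        rw [← Scheme.Hom.comp_apply, ← Scheme.Hom.comp_apply]
        exact congrArg (fun f => f t) (congrArg Over.Hom.left h))
      exact ⟨o, ho⟩
    let c : T ⟶ H ⊗ O := Over.homMk (IsOpenImmersion.lift j1.left x.left hr) (by
      rw [← Over.w j1, ← Category.assoc, IsOpenImmersion.lift_fac]
      exact Over.w x)
    have hc : c ≫ j1 = x := Over.OverMorphism.ext (IsOpenImmersion.lift_fac _ _ _)
    exact ⟨c, hc, mono_cancel e2 (by rw [Category.assoc, ← he, ← Category.assoc, hc, h])⟩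
  -- the chart over `U1`, resp. `U2`
  let C : ULift.{u} Bool → Over V := fun i => if i.down then P ⊗ U1 else H ⊗ U2
  let ε : ∀ i : ULift.{u} Bool, (if i.down then P ⊗ U1 else H ⊗ U2) ⟶ Y := fun
    | ⟨true⟩ => e1
    | ⟨false⟩ => e2
  haveI : ∀ i, IsOpenImmersion (ε i).left := fun
    | ⟨true⟩ => hi1
    | ⟨false⟩ => hi2
  have hεs : ∀ y : Y.left, ∃ i, y ∈ Set.range (ε i).left := fun y =>
    (hsurj y).elim (fun h => ⟨⟨true⟩, h⟩) fun h => ⟨⟨false⟩, h⟩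
  let t1 : ∀ {T : Over V}, (T ⟶ H) → (T ⟶ P ⊗ U1) → (T ⟶ P ⊗ U1) :=
    fun g x => lift (act a g (x ≫ fst _ _)) (x ≫ snd _ _)
  let t2 : ∀ {T : Over V}, (T ⟶ H) → (T ⟶ H ⊗ U2) → (T ⟶ H ⊗ U2) :=
    fun g x => lift (act (NonAbH1.trivialAction H) g (x ≫ fst _ _)) (x ≫ snd _ _)
  have hj1c : ∀ {T : Over V} (g : T ⟶ H) (c : T ⟶ H ⊗ O), t1 g (c ≫ j1) =
      lift (g * (c ≫ fst _ _)) (c ≫ snd _ _) ≫ j1 := by
    intro T g c
    have hc : c ≫ j1 = lift (act a (c ≫ fst _ _) ((c ≫ snd _ _) ≫ σ)) ((c ≫ snd _ _) ≫ o1) := by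
      rw [← hj1p, ← comp_lift, lift_fst_snd, Category.comp_id]
    simp only [t1, hc, hj1p, lift_fst, lift_snd, act_mul]
  have hj2c : ∀ {T : Over V} (g : T ⟶ H) (c : T ⟶ H ⊗ O), t2 g (c ≫ j2) =
      lift (g * (c ≫ fst _ _)) (c ≫ snd _ _) ≫ j2 := by
    intro T g c
    have hc : c ≫ j2 = lift (act (NonAbH1.trivialAction H) (c ≫ fst _ _) ((c ≫ snd _ _) ≫ (1 : O ⟶ H)))
        ((c ≫ snd _ _) ≫ o2) := by
      rw [← hj2p, ← comp_lift, lift_fst_snd, Category.comp_id]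
    simp only [t2, hc, hj2p, lift_fst, lift_snd, act_mul]
  have cross : ∀ {T : Over V} (g : T ⟶ H) (x : T ⟶ P ⊗ U1) (x' : T ⟶ H ⊗ U2), x ≫ e1 = x' ≫ e2 →
      t1 g x ≫ e1 = t2 g x' ≫ e2 := by
    intro T g x x' h
    obtain ⟨c, rfl, rfl⟩ := inter x x' h
    rw [hj1c, hj2c, Category.assoc, Category.assoc, he]
  let op : ∀ (i : ULift.{u} Bool) {T : Over V}, (T ⟶ H) → (T ⟶ (if i.down then P ⊗ U1 else H ⊗ U2)) → (T ⟶ Y) :=
    fun i {T} g x => match i, x with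
      | ⟨true⟩, x => t1 g x ≫ e1
      | ⟨false⟩, x => t2 g x ≫ e2
  obtain ⟨m, hm⟩ := exists_op ε hεs op (by
      rintro ⟨_ | _⟩ T T' h g x
      · show h ≫ t2 g x ≫ e2 = t2 _ _ ≫ e2
        simp only [t2, comp_lift_assoc, comp_act, Category.assoc]
      · show h ≫ t1 g x ≫ e1 = t1 _ _ ≫ e1
        simp only [t1, comp_lift_assoc, comp_act, Category.assoc]) (by
      rintro ⟨_ | _⟩ ⟨_ | _⟩ T g x y h
      · have : x = y := mono_cancel e2 h
        rw [this]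
      · exact (cross g y x h.symm).symm
      · exact cross g x y h
      · have : x = y := mono_cancel e1 h
        rw [this])
  have hm1 : ∀ {T : Over V} (g : T ⟶ H) (x : T ⟶ P ⊗ U1), lift g (x ≫ e1) ≫ m = t1 g x ≫ e1 :=
    fun g x => hm ⟨true⟩ _ g x
  have hm2 : ∀ {T : Over V} (g : T ⟶ H) (x : T ⟶ H ⊗ U2), lift g (x ≫ e2) ≫ m = t2 g x ≫ e2 :=
    fun g x => hm ⟨false⟩ _ g x
  obtain ⟨aY, haY⟩ := action_of_points m (fun T y => by
      obtain ⟨Ti, c, x, hco, hcs, hcx⟩ := exists_pullback_cover ε hεs y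
      refine ext_over c hcs fun i => ?_
      rw [comp_lift_assoc, MonObj.comp_one, hcx]
      rcases i with ⟨_ | _⟩
      · rw [hm2]; simp only [t2, act_one, ← comp_lift, lift_fst_snd, Category.comp_id]; rfl
      · rw [hm1]; simp only [t1, act_one, ← comp_lift, lift_fst_snd, Category.comp_id]; rfl)
    (fun T g g' y => by
      obtain ⟨Ti, c, x, hco, hcs, hcx⟩ := exists_pullback_cover ε hεs y
      refine ext_over c hcs fun i => ?_
      simp only [comp_lift_assoc, MonObj.comp_mul, hcx]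
      rcases i with ⟨_ | _⟩
      · change lift _ ((x ⟨false⟩) ≫ e2) ≫ m = lift _ (lift _ ((x ⟨false⟩) ≫ e2) ≫ m) ≫ m
        rw [hm2, hm2, hm2]; simp only [t2, lift_fst, lift_snd, act_mul]
      · change lift _ ((x ⟨true⟩) ≫ e1) ≫ m = lift _ (lift _ ((x ⟨true⟩) ≫ e1) ≫ m) ≫ m
        rw [hm1, hm1, hm1]; simp only [t1, lift_fst, lift_snd, act_mul])
  -- points over the two pieces
  have over1 : ∀ {T : Over V} (y : T ⟶ Y) (v : T ⟶ U1), ∃ x : T ⟶ P ⊗ U1, x ≫ e1 = y := by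
    intro T y v
    obtain ⟨Ti, c, x, hco, hcs, hcx⟩ := exists_pullback_cover ε hεs y
    have piece : ∀ i, ∃ z : Ti i ⟶ P ⊗ U1, z ≫ e1 = c i ≫ y := by
      rintro ⟨_ | _⟩
      · obtain ⟨o⟩ := hO (Ti ⟨false⟩) (c ⟨false⟩ ≫ v) ((x ⟨false⟩ : Ti ⟨false⟩ ⟶ H ⊗ U2) ≫ snd _ _)
        refine ⟨lift ((x ⟨false⟩ : Ti ⟨false⟩ ⟶ H ⊗ U2) ≫ fst _ _) o ≫ j1, ?_⟩
        rw [Category.assoc, he, ← Category.assoc, hcx]
        refine congrArg (· ≫ e2) ?_
        show lift _ o ≫ j2 = (x ⟨false⟩ : Ti ⟨false⟩ ⟶ H ⊗ U2)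
        rw [hj2p]
        refine CartesianMonoidalCategory.hom_ext _ _ ?_ (Subsingleton.elim _ _)
        rw [lift_fst, MonObj.comp_one, TorsSeqLib.trivialAction_act, _root_.mul_one]
      · exact ⟨x ⟨true⟩, (hcx _).symm⟩
    choose z hz using piece
    obtain ⟨w, hw⟩ := exists_over c hcs z fun i j U p q h => mono_cancel e1 (by
      rw [Category.assoc, Category.assoc, hz, hz, ← Category.assoc, h, Category.assoc])
    exact ⟨w, ext_over c hcs fun i => by rw [← Category.assoc, hw, hz]⟩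
  have over2 : ∀ {T : Over V} (y : T ⟶ Y) (v : T ⟶ U2), ∃ x : T ⟶ H ⊗ U2, x ≫ e2 = y := by
    intro T y v
    obtain ⟨Ti, c, x, hco, hcs, hcx⟩ := exists_pullback_cover ε hεs y
    have piece : ∀ i, ∃ z : Ti i ⟶ H ⊗ U2, z ≫ e2 = c i ≫ y := by
      rintro ⟨_ | _⟩
      · exact ⟨x ⟨false⟩, (hcx _).symm⟩
      · let x' : Ti ⟨true⟩ ⟶ P ⊗ U1 := x ⟨true⟩
        obtain ⟨o⟩ := hO (Ti ⟨true⟩) (x' ≫ snd _ _) (c ⟨true⟩ ≫ v)
        obtain ⟨g, hg⟩ := TorsSeqLib.exists_act_eq ha.1 (o ≫ σ) (x' ≫ fst _ _)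
        refine ⟨lift g o ≫ j2, ?_⟩
        rw [Category.assoc, ← he, ← Category.assoc, hcx]
        refine congrArg (· ≫ e1) ?_
        show lift g o ≫ j1 = x'
        rw [hj1p, hg]
        exact CartesianMonoidalCategory.hom_ext _ _ (lift_fst _ _) (Subsingleton.elim _ _)
    choose z hz using piece
    obtain ⟨w, hw⟩ := exists_over c hcs z fun i j U p q h => mono_cancel e2 (by
      rw [Category.assoc, Category.assoc, hz, hz, ← Category.assoc, h, Category.assoc])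
    exact ⟨w, ext_over c hcs fun i => by rw [← Category.assoc, hw, hz]⟩
  have hact1 : ∀ {T : Over V} (g : T ⟶ H) (x : T ⟶ P ⊗ U1), act aY g (x ≫ e1) = t1 g x ≫ e1 := fun g x => by
    rw [act, haY, hm1]
  have hact2 : ∀ {T : Over V} (g : T ⟶ H) (x : T ⟶ H ⊗ U2), act aY g (x ≫ e2) = t2 g x ≫ e2 := fun g x => by
    rw [act, haY, hm2]
  -- the cover of the base
  let u : ∀ i : ULift.{u} Bool, (if i.down then U1 else U2) ⟶ Over.mk (𝟙 V) := fun
    | ⟨true⟩ => Over.homMk U1.hom (Category.comp_id _)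
    | ⟨false⟩ => Over.homMk U2.hom (Category.comp_id _)
  haveI : ∀ i, IsOpenImmersion (u i).left := fun
    | ⟨true⟩ => inferInstanceAs (IsOpenImmersion U1.hom)
    | ⟨false⟩ => inferInstanceAs (IsOpenImmersion U2.hom)
  have hus : ∀ x : (Over.mk (𝟙 V)).left, ∃ i, x ∈ Set.range (u i).left := fun x =>
    (hcov x).elim (fun h => ⟨⟨true⟩, h⟩) fun h => ⟨⟨false⟩, h⟩
  have cancelY : ∀ (T : Over V) (g g' : T ⟶ H) (y : T ⟶ Y), act aY g y = act aY g' y → g = g' := by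
    intro T g g' y h
    obtain ⟨Ti, c, x, hco, hcs, hcx⟩ := exists_pullback_cover ε hεs y
    refine ext_over c hcs fun i => ?_
    have h' := congrArg (c i ≫ ·) h
    simp only [comp_act, hcx] at h'
    rcases i with ⟨_ | _⟩
    · change act aY _ ((x ⟨false⟩ : Ti ⟨false⟩ ⟶ H ⊗ U2) ≫ e2) = act aY _ ((x ⟨false⟩ : Ti ⟨false⟩ ⟶ H ⊗ U2) ≫ e2) at h'
      rw [hact2, hact2] at h'
      have h'' := congrArg (· ≫ fst H U2) (mono_cancel e2 h')
      simp only [t2, lift_fst] at h''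
      exact TorsSeqLib.act_cancel (NonAbH1.isPseudoTorsorSch_trivialAction H) h''
    · change act aY _ ((x ⟨true⟩ : Ti ⟨true⟩ ⟶ P ⊗ U1) ≫ e1) = act aY _ ((x ⟨true⟩ : Ti ⟨true⟩ ⟶ P ⊗ U1) ≫ e1) at h'
      rw [hact1, hact1] at h'
      have h'' := congrArg (· ≫ fst P U1) (mono_cancel e1 h')
      simp only [t1, lift_fst] at h''
      exact TorsSeqLib.act_cancel ha.1 h''
  have transY : ∀ (T : Over V) (y y' : T ⟶ Y), ∃ g : T ⟶ H, act aY g y = y' := by
    intro T y y'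
    obtain ⟨Ti, c, v, hco, hcs, -⟩ := exists_pullback_cover u hus (Over.homMk T.hom (Category.comp_id _) : T ⟶ Over.mk (𝟙 V))
    have piece : ∀ i, ∃ g : Ti i ⟶ H, act aY g (c i ≫ y) = c i ≫ y' := by
      rintro ⟨_ | _⟩
      · obtain ⟨x, hx⟩ := over2 (c _ ≫ y) (v ⟨false⟩)
        obtain ⟨x', hx'⟩ := over2 (c _ ≫ y') (v ⟨false⟩)
        obtain ⟨g, hg⟩ := TorsSeqLib.exists_act_eq (NonAbH1.isPseudoTorsorSch_trivialAction H) (x ≫ fst _ _) (x' ≫ fst _ _)
        refine ⟨g, ?_⟩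
        rw [← hx, ← hx', hact2]
        refine congrArg (· ≫ e2) ?_
        exact CartesianMonoidalCategory.hom_ext _ _ (by simp only [t2, lift_fst]; exact hg) (Subsingleton.elim _ _)
      · obtain ⟨x, hx⟩ := over1 (c _ ≫ y) (v ⟨true⟩)
        obtain ⟨x', hx'⟩ := over1 (c _ ≫ y') (v ⟨true⟩)
        obtain ⟨g, hg⟩ := TorsSeqLib.exists_act_eq ha.1 (x ≫ fst _ _) (x' ≫ fst _ _)
        refine ⟨g, ?_⟩
        rw [← hx, ← hx', hact1]
        refine congrArg (· ≫ e1) ?_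
        exact CartesianMonoidalCategory.hom_ext _ _ (by simp only [t1, lift_fst]; exact hg) (Subsingleton.elim _ _)
    choose g hg using piece
    obtain ⟨g', hg'⟩ := exists_over c hcs g fun i j U p q h => cancelY _ _ _ ((p ≫ c i) ≫ y) (by
      rw [show act aY (q ≫ g j) ((p ≫ c i) ≫ y) = act aY (q ≫ g j) ((q ≫ c j) ≫ y) by rw [h], Category.assoc,
        Category.assoc, ← comp_act, ← comp_act, hg, hg, ← Category.assoc, h, Category.assoc])
    refine ⟨g', ext_over c hcs fun i => ?_⟩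
    rw [comp_act, hg', hg]
  -- local triviality
  have hloc : NonAbH1.IsLocallyTrivialFor Scheme.fppfPrecoverage Y := by
    obtain ⟨T, hTf, hTs, hTp, ⟨t⟩⟩ := TorsExtLib.exists_cover ha.2
    let s1 : pullback U1.hom T.hom ⟶ (P ⊗ U1).left :=
      (lift (Over.homMk (pullback.snd U1.hom T.hom) pullback.condition.symm ≫ t)
        (Over.homMk (pullback.fst U1.hom T.hom) rfl) :
        Over.mk (pullback.fst U1.hom T.hom ≫ U1.hom) ⟶ P ⊗ U1).left
    have hs1 : s1 ≫ i1 ≫ π = pullback.fst U1.hom T.hom ≫ U1.hom := by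
      rw [hπ1]; exact Over.w _
    let W : ULift.{u} Bool → Scheme.{u} := fun i => if i.down then pullback U1.hom T.hom else U2.left
    let q : ∀ i : ULift.{u} Bool, (if i.down then pullback U1.hom T.hom else U2.left) ⟶ V := fun
      | ⟨true⟩ => pullback.fst U1.hom T.hom ≫ U1.hom
      | ⟨false⟩ => U2.hom
    refine ⟨Presieve.ofArrows _ q, (Scheme.ofArrows_mem_precoverage_iff _).2 ⟨fun x => ?_, ?_⟩, ?_⟩
    · rcases hcov x with ⟨z, hz⟩ | h
      · obtain ⟨z', hz'⟩ := (inferInstance : Surjective (pullback.fst U1.hom T.hom)).surj z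
        refine ⟨⟨true⟩, z', ?_⟩
        show (pullback.fst U1.hom T.hom ≫ U1.hom) z' = x
        rw [Scheme.Hom.comp_apply, hz', hz]
      · exact ⟨⟨false⟩, h⟩
    · rintro ⟨_ | _⟩
      · exact ⟨inferInstanceAs (Flat U2.hom), inferInstanceAs (LocallyOfFinitePresentation U2.hom)⟩
      · exact ⟨inferInstanceAs (Flat (pullback.fst U1.hom T.hom ≫ U1.hom)),
          inferInstanceAs (LocallyOfFinitePresentation (pullback.fst U1.hom T.hom ≫ U1.hom))⟩
    · rintro S' _ ⟨⟨_ | _⟩⟩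
      · exact ⟨((lift (1 : U2 ⟶ H) (𝟙 U2)) ≫ e2).left, Over.w _⟩
      · exact ⟨s1 ≫ i1, (Category.assoc _ _ _).trans hs1⟩
  refine ⟨⟨Y, aY, TorsPatchLib.isPseudoTorsorSch_of_points aY transY cancelY, hloc⟩, e1,
    lift (1 : U2 ⟶ H) (𝟙 U2) ≫ e2, fun T y v => ?_, hi1, ?_, fun T g p v => ?_⟩
  · obtain ⟨x, hx⟩ := over1 y v
    refine ⟨x ≫ fst _ _, ?_⟩
    rw [← hx, show v = x ≫ snd _ _ from Subsingleton.elim _ _, ← comp_lift, lift_fst_snd, Category.comp_id]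
  · have e_1 : lift (1 : O ⟶ H) (𝟙 O) ≫ j1 = lift σ o1 := by
      rw [hj1p, Category.id_comp, Category.id_comp, act_one]
    have e_2 : lift (1 : O ⟶ H) (𝟙 O) ≫ j2 = o2 ≫ lift (1 : U2 ⟶ H) (𝟙 U2) := by
      rw [hj2p, comp_lift, Category.id_comp, Category.id_comp, act_one, MonObj.comp_one, Category.comp_id]
    rw [← e_1, ← Category.assoc, ← e_2, Category.assoc, Category.assoc, he]
  · rw [hact1]
    simp only [t1, lift_fst, lift_snd]

end TorsNontrivLib
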